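/-
Approximations in the derived category and finiteness of cycles for `C₀`-pseudo-coherence.
-/
import Groth.Prelude.Def_PCoh
import Mathlib.Algebra.Homology.DerivedCategory.HomologySequence
import Mathlib.Algebra.Homology.DerivedCategory.Fractions
import Mathlib.Algebra.Homology.HomotopyCategory.MappingCocone
import Mathlib.Algebra.Homology.Augment
import Mathlib.CategoryTheory.Abelian.Refinements

set_option autoImplicit false

universe w v u

open CategoryTheory CategoryTheory.Limits Pretriangulated CochainComplex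

namespace Groth.L13.PCoh

variable {C : Type u} [Category.{v} C] [Abelian C]

section Finite

variable (P : ObjectProperty C) [P.IsClosedUnderIsomorphisms] [P.ContainsZero]

theorem prop_of_isZero {X : C} (hX : IsZero X) : P X := by
  obtain ⟨Z, hZ, hP⟩ := ObjectProperty.exists_prop_of_containsZero P
  exact P.prop_of_iso (hZ.iso hX) hP

omit [P.ContainsZero] in
theorem prop_biprod (hsum : ∀ X Y : C, P X → P Y → P (X ⨯ Y)) {X Y : C} (hX : P X) (hY : P Y) :
    P (X ⊞ Y) :=
  P.prop_of_iso (biprod.isoProd X Y).symm (hsum X Y hX hY)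

/-- The terms of a mapping cone. -/
noncomputable def coneXIso {E F : CochainComplex C ℤ} (u : E ⟶ F) (i : ℤ) :
    (mappingCone u).X i ≅ E.X (i + 1) ⊞ F.X i :=
  HomologicalComplex.homotopyCofiber.XIsoBiprod u i (i + 1) rfl

omit [P.ContainsZero] in
theorem prop_cone (hsum : ∀ X Y : C, P X → P Y → P (X ⨯ Y)) {E F : CochainComplex C ℤ} (u : E ⟶ F)
    (i : ℤ) (hE : P (E.X (i + 1))) (hF : P (F.X i)) : P ((mappingCone u).X i) :=
  P.prop_of_iso (coneXIso u i).symm (prop_biprod P hsum hE hF)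

theorem isStrictPC_cone (hsum : ∀ X Y : C, P X → P Y → P (X ⨯ Y)) {E F : CochainComplex C ℤ} (u : E ⟶ F)
    (n : ℤ) (hE : PCoh.IsStrictPC P (n + 1) E) (hF : PCoh.IsStrictPC P n F) :
    PCoh.IsStrictPC P n (mappingCone u) := by
  obtain ⟨⟨a, ha⟩, hE⟩ := hE
  obtain ⟨⟨b, hb⟩, hF⟩ := hF
  refine ⟨⟨max a b, fun i hi => ?_⟩, fun i hi => prop_cone P hsum u i (hE _ (by omega)) (hF i hi)⟩
  rw [mappingCone.isZero_X_iff]
  exact ⟨ha _ (by omega), hb _ (by omega)⟩

omit [P.IsClosedUnderIsomorphisms] [P.ContainsZero] in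
theorem ft_of_epi {F G : C} (q : F ⟶ G) [Epi q] (h : PCoh.IsOfFiniteType P F) : PCoh.IsOfFiniteType P G := by
  obtain ⟨E, π, hE, hπ⟩ := h
  exact ⟨E, π ≫ q, hE, epi_comp _ _⟩

omit [P.IsClosedUnderIsomorphisms] [P.ContainsZero] in
theorem ft_of_iso {F G : C} (e : F ≅ G) (h : PCoh.IsOfFiniteType P F) : PCoh.IsOfFiniteType P G :=
  ft_of_epi P e.hom h

/-- The terms in degrees `≥ k`, re-indexed by `ℕ`. -/
noncomputable def tail₀ (K : CochainComplex C ℤ) (k : ℤ) : CochainComplex C ℕ where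
  X j := K.X (k + j)
  d i j := K.d (k + i) (k + j)
  shape i j h := K.shape _ _ fun h' => h (by
    simp only [ComplexShape.up_Rel] at h' ⊢
    omega)
  d_comp_d' _ _ _ _ _ := K.d_comp_d _ _ _

/-- The truncation `0 → Zᵏ → Kᵏ → Kᵏ⁺¹ → ⋯`. -/
noncomputable def tail (K : CochainComplex C ℤ) (k : ℤ) : CochainComplex C ℕ :=
  CochainComplex.augment (tail₀ K k)
    (K.iCycles k ≫ (K.XIsoOfEq (show k = k + ((0 : ℕ) : ℤ) by simp)).hom)
    (by
      rw [Category.assoc]
      change _ ≫ _ ≫ K.d (k + ((0 : ℕ) : ℤ)) (k + ((1 : ℕ) : ℤ)) = 0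
      rw [HomologicalComplex.XIsoOfEq_hom_comp_d, HomologicalComplex.iCycles_d])

omit [P.IsClosedUnderIsomorphisms] [P.ContainsZero] in
theorem ft_cycles (hqs : PCoh.IsQuasiStableUnderKernels P) (K : CochainComplex C ℤ) (k : ℤ)
    (hP : ∀ i, k ≤ i → P (K.X i)) (hb : ∃ b : ℤ, ∀ i, b < i → IsZero (K.X i))
    (hac : ∀ i, k < i → K.ExactAt i) : PCoh.IsOfFiniteType P (K.cycles k) := by
  obtain ⟨b, hb⟩ := hb
  refine hqs (tail K k) (fun i => ?_) ⟨(b - k).toNat + 1, fun i hi => ?_⟩ (fun i hi => ?_)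
  · match i with
    | 0 =>
      have hm : Mono ((tail K k).d 0 1) :=
        inferInstanceAs (Mono (K.iCycles k ≫ (K.XIsoOfEq (show k = k + ((0 : ℕ) : ℤ) by simp)).hom))
      rw [HomologicalComplex.exactAt_iff' _ 0 0 1 (by simp) (by simp),
        ShortComplex.exact_iff_mono _ ((tail K k).shape 0 0 (by simp [ComplexShape.up_Rel]))]
      exact hm
    | 1 =>
      rw [HomologicalComplex.exactAt_iff' _ 0 1 2 (by simp) (by simp),
        ShortComplex.exact_iff_exact_up_to_refinements]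
      intro A x hx
      change A ⟶ K.X (k + ((0 : ℕ) : ℤ)) at x
      have h : x ≫ (K.d (k + ((0 : ℕ) : ℤ)) (k + ((1 : ℕ) : ℤ))) = 0 := hx
      have hx' : (x ≫ (K.XIsoOfEq (show k + ((0 : ℕ) : ℤ) = k by simp)).hom) ≫ K.d k (k + 1) = 0 := by
        rw [Category.assoc, HomologicalComplex.XIsoOfEq_hom_comp_d]
        exact_mod_cast h
      refine ⟨A, 𝟙 A, inferInstance, K.liftCycles _ (k + 1) (by simp) hx', ?_⟩
      show 𝟙 A ≫ x = K.liftCycles _ (k + 1) (by simp) hx' ≫ K.iCycles k ≫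
        (K.XIsoOfEq (show k = k + ((0 : ℕ) : ℤ) by simp)).hom
      rw [K.liftCycles_i_assoc]
      simp [tail, tail₀]
    | j + 2 =>
      rw [HomologicalComplex.exactAt_iff' _ (j + 1) (j + 2) (j + 3) (by simp) (by simp)]
      have h := hac (k + ((j + 1 : ℕ) : ℤ)) (by omega)
      rw [HomologicalComplex.exactAt_iff' _ (k + ((j : ℕ) : ℤ)) (k + ((j + 1 : ℕ) : ℤ)) (k + ((j + 2 : ℕ) : ℤ))
        (by simp; omega) (by simp; omega)] at h
      exact h
  · match i with
    | j + 1 => exact hb _ (by omega)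
  · match i with
    | j + 1 => exact hP _ (by omega)

omit [P.IsClosedUnderIsomorphisms] [P.ContainsZero] in
theorem ft_homology (hqs : PCoh.IsQuasiStableUnderKernels P) (K : CochainComplex C ℤ) (k : ℤ)
    (hP : ∀ i, k ≤ i → P (K.X i)) (hb : ∃ b : ℤ, ∀ i, b < i → IsZero (K.X i))
    (hac : ∀ i, k < i → K.ExactAt i) : PCoh.IsOfFiniteType P (K.homology k) :=
  ft_of_epi P (K.homologyπ k) (ft_cycles P hqs K k hP hb hac)

end Finite

section Approx

variable [HasDerivedCategory.{w} C]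

/-- Iso on `Hⁱ` for `i > m`, epi on `Hᵐ`. -/
def Approx {K L : DerivedCategory C} (f : K ⟶ L) (m : ℤ) : Prop :=
  (∀ i : ℤ, m < i → IsIso ((DerivedCategory.homologyFunctor C i).map f)) ∧
    Epi ((DerivedCategory.homologyFunctor C m).map f)

variable {K L M : DerivedCategory C} {m : ℤ}

theorem Approx.comp {f : K ⟶ L} {g : L ⟶ M} (hf : Approx f m) (hg : Approx g m) : Approx (f ≫ g) m := by
  refine ⟨fun i hi => ?_, ?_⟩
  · have := hf.1 i hi; have := hg.1 i hi
    rw [Functor.map_comp]; infer_instance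
  · have := hf.2; have := hg.2
    rw [Functor.map_comp]; exact epi_comp _ _

theorem Approx.of_isIso (f : K ⟶ L) [IsIso f] (m : ℤ) : Approx f m := ⟨fun _ _ => inferInstance, inferInstance⟩

theorem approx_iff_triangle (T : Triangle (DerivedCategory C)) (hT : T ∈ distTriang _) (m : ℤ) :
    Approx T.mor₁ m ↔ ∀ i, m ≤ i → IsZero ((DerivedCategory.homologyFunctor C i).obj T.obj₃) := by
  constructor
  · intro h i hi
    have he : Epi ((DerivedCategory.homologyFunctor C i).map T.mor₁) := by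
      rcases eq_or_lt_of_le hi with rfl | hi'
      · exact h.2
      · have := h.1 i hi'; infer_instance
    have := h.1 (i + 1) (by omega)
    have h2 : Epi ((DerivedCategory.homologyFunctor C i).map T.mor₂) :=
      (DerivedCategory.HomologySequence.epi_homologyMap_mor₂_iff T hT i (i + 1) rfl).2
        ((DerivedCategory.HomologySequence.mono_homologyMap_mor₁_iff T hT i (i + 1) rfl).1 inferInstance)
    exact IsZero.of_epi_eq_zero _
      ((DerivedCategory.HomologySequence.epi_homologyMap_mor₁_iff T hT i).1 he)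
  · intro h
    have he : ∀ i, m ≤ i → Epi ((DerivedCategory.homologyFunctor C i).map T.mor₁) := fun i hi =>
      (DerivedCategory.HomologySequence.epi_homologyMap_mor₁_iff T hT i).2 ((h i hi).eq_of_tgt _ _)
    refine ⟨fun i hi => ?_, he m le_rfl⟩
    have := he i hi.le
    have : Mono ((DerivedCategory.homologyFunctor C i).map T.mor₁) :=
      (DerivedCategory.HomologySequence.mono_homologyMap_mor₁_iff T hT (i - 1) i (by omega)).2
        ((h (i - 1) (by omega)).eq_of_src _ _)
    exact isIso_of_mono_of_epi _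

theorem isZero_homologyFunctor_Q_iff (X : CochainComplex C ℤ) (i : ℤ) :
    IsZero ((DerivedCategory.homologyFunctor C i).obj (DerivedCategory.Q.obj X)) ↔ IsZero (X.homology i) :=
  Iso.isZero_iff ((DerivedCategory.homologyFunctorFactors C i).app X)

theorem approx_Q_iff {E X : CochainComplex C ℤ} (u : E ⟶ X) (m : ℤ) :
    Approx (DerivedCategory.Q.map u) m ↔
      (∀ i : ℤ, m < i → IsIso (HomologicalComplex.homologyMap u i)) ∧ Epi (HomologicalComplex.homologyMap u m) :=
  and_congr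
    (forall₂_congr fun i _ => NatIso.isIso_map_iff (DerivedCategory.homologyFunctorFactors C i) u)
    ((MorphismProperty.epimorphisms C).arrow_mk_iso_iff
      (Arrow.isoMk ((DerivedCategory.homologyFunctorFactors C m).app E)
        ((DerivedCategory.homologyFunctorFactors C m).app X)
        (DerivedCategory.homologyFunctorFactors_hom_naturality u m).symm))

theorem approx_iff_exactAt_cone {E X : CochainComplex C ℤ} (u : E ⟶ X) (m : ℤ) :
    Approx (DerivedCategory.Q.map u) m ↔ ∀ i, m ≤ i → (mappingCone u).ExactAt i := by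
  refine (approx_iff_triangle _ (DerivedCategory.mappingCone_triangle_distinguished u) m).trans ?_
  refine forall₂_congr fun i _ => ?_
  rw [HomologicalComplex.exactAt_iff_isZero_homology]
  exact isZero_homologyFunctor_Q_iff (mappingCone u) i

/-- Approximation passes to third objects. -/
theorem approx_hom₃ {T T' : Triangle (DerivedCategory C)} (hT : T ∈ distTriang _) (hT' : T' ∈ distTriang _)
    (φ : T ⟶ T') [IsIso φ.hom₂] (k : ℤ) (h : Approx φ.hom₁ (k + 1)) : Approx φ.hom₃ k := by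
  let H := DerivedCategory.homologyFunctor C
  have hδ : ∀ (i j : ℤ) (hij : i + 1 = j),
      DerivedCategory.HomologySequence.δ T i j hij ≫ (H j).map φ.hom₁ =
        (H i).map φ.hom₃ ≫ DerivedCategory.HomologySequence.δ T' i j hij := by
    intro i j hij
    have h1 := (DerivedCategory.homologyFunctor C 0).homologySequenceδ_naturality T T' φ i j hij
    exact h1.symm
  have hβ : ∀ i, (H i).map T.mor₂ ≫ (H i).map φ.hom₃ = (H i).map φ.hom₂ ≫ (H i).map T'.mor₂ := fun i => by
    rw [← Functor.map_comp, ← Functor.map_comp, φ.comm₂]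
  have hα : ∀ i, (H i).map T.mor₁ ≫ (H i).map φ.hom₂ = (H i).map φ.hom₁ ≫ (H i).map T'.mor₁ := fun i => by
    rw [← Functor.map_comp, ← Functor.map_comp, φ.comm₁]
  have ha : ∀ j, k + 1 ≤ j → Epi ((H j).map φ.hom₁) := fun j hj => by
    rcases eq_or_lt_of_le hj with rfl | hj'
    · exact h.2
    · have := h.1 j hj'; infer_instance
  have hepi : ∀ i, k ≤ i → Epi ((H i).map φ.hom₃) := fun i hi => by
    rw [epi_iff_surjective_up_to_refinements]
    intro A y
    have := ha (i + 1) (by omega)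
    obtain ⟨A₁, π₁, hπ₁, x, hx⟩ :=
      surjective_up_to_refinements_of_epi ((H (i + 1)).map φ.hom₁) (y ≫ DerivedCategory.HomologySequence.δ T' i (i + 1) rfl)
    have hx0 : x ≫ (H (i + 1)).map T.mor₁ = 0 := by
      rw [← cancel_mono ((H (i + 1)).map φ.hom₂), Category.assoc, hα, ← reassoc_of% hx,
        DerivedCategory.HomologySequence.δ_comp T' hT' i (i + 1) rfl, comp_zero, comp_zero, zero_comp]
    obtain ⟨A₂, π₂, hπ₂, z, hz⟩ :=
      (DerivedCategory.HomologySequence.exact₁ T hT i (i + 1) rfl).exact_up_to_refinements x hx0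
    dsimp at z hz
    have hw0 : (π₂ ≫ π₁ ≫ y - z ≫ (H i).map φ.hom₃) ≫ DerivedCategory.HomologySequence.δ T' i (i + 1) rfl = 0 := by
      rw [Preadditive.sub_comp, Category.assoc, Category.assoc, Category.assoc, ← hδ, ← reassoc_of% hz, hx, sub_self]
    obtain ⟨A₃, π₃, hπ₃, w, hw⟩ :=
      (DerivedCategory.HomologySequence.exact₃ T' hT' i (i + 1) rfl).exact_up_to_refinements _ hw0
    dsimp at w hw
    refine ⟨A₃, π₃ ≫ π₂ ≫ π₁, inferInstance, π₃ ≫ z + (w ≫ inv ((H i).map φ.hom₂)) ≫ (H i).map T.mor₂, ?_⟩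
    simp only [Preadditive.add_comp, Category.assoc, hβ, IsIso.inv_hom_id_assoc]
    rw [← hw, Preadditive.comp_sub]
    abel
  refine ⟨fun i hi => ?_, hepi k le_rfl⟩
  haveI := hepi i hi.le
  haveI : Mono ((H i).map φ.hom₃) := by
    rw [Preadditive.mono_iff_cancel_zero]
    intro A x hx
    have h1 : x ≫ DerivedCategory.HomologySequence.δ T i (i + 1) rfl = 0 := by
      have := h.1 (i + 1) (by omega)
      rw [← cancel_mono ((H (i + 1)).map φ.hom₁), Category.assoc, hδ, reassoc_of% hx, zero_comp, zero_comp]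
    obtain ⟨A₁, π₁, hπ₁, w, hw⟩ :=
      (DerivedCategory.HomologySequence.exact₃ T hT i (i + 1) rfl).exact_up_to_refinements x h1
    dsimp at w hw
    have h2 : (w ≫ (H i).map φ.hom₂) ≫ (H i).map T'.mor₂ = 0 := by
      rw [Category.assoc, ← hβ, ← reassoc_of% hw, hx, comp_zero]
    obtain ⟨A₂, π₂, hπ₂, v, hv⟩ :=
      (DerivedCategory.HomologySequence.exact₂ T' hT' i).exact_up_to_refinements _ h2
    dsimp at v hv
    have := ha i (by omega)
    obtain ⟨A₃, π₃, hπ₃, t, ht⟩ := surjective_up_to_refinements_of_epi ((H i).map φ.hom₁) v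
    have h3 : π₃ ≫ π₂ ≫ w = t ≫ (H i).map T.mor₁ := by
      rw [← cancel_mono ((H i).map φ.hom₂), Category.assoc, Category.assoc, hv, reassoc_of% ht, Category.assoc, hα]
    have h4 : π₃ ≫ π₂ ≫ π₁ ≫ x = 0 := by
      rw [hw, ← Category.assoc π₂, ← Category.assoc π₃, h3, Category.assoc, ← Functor.map_comp,
        comp_distTriang_mor_zero₁₂ _ hT, Functor.map_zero, comp_zero]
    rwa [← cancel_epi π₁, ← cancel_epi π₂, ← cancel_epi π₃, comp_zero, comp_zero, comp_zero]
  exact isIso_of_mono_of_epi _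

variable (P : ObjectProperty C)

/-- `F` is isomorphic in `D(C)` to a strictly `n`-pseudo-coherent complex. -/
def IsN (n : ℤ) (F : DerivedCategory C) : Prop :=
  ∃ E : CochainComplex C ℤ, PCoh.IsStrictPC P n E ∧ Nonempty (DerivedCategory.Q.obj E ≅ F)

theorem IsN.of_iso {n : ℤ} {F G : DerivedCategory C} (h : IsN P n F) (e : F ≅ G) : IsN P n G := by
  obtain ⟨E, hE, ⟨i⟩⟩ := h
  exact ⟨E, hE, ⟨i ≪≫ e⟩⟩

theorem IsN.mono {n n' : ℤ} {F : DerivedCategory C} (h : IsN P n F) (hn : n ≤ n') : IsN P n' F := by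
  obtain ⟨E, ⟨hb, hP⟩, e⟩ := h
  exact ⟨E, ⟨hb, fun i hi => hP i (hn.trans hi)⟩, e⟩

theorem IsN.shift [P.IsClosedUnderIsomorphisms] {n : ℤ} {F : DerivedCategory C} (h : IsN P n F) (a n' : ℤ)
    (hn : n' + a = n) : IsN P n' (F⟦a⟧) := by
  obtain ⟨E, ⟨⟨b, hb⟩, hP⟩, ⟨e⟩⟩ := h
  refine ⟨E⟦a⟧, ⟨⟨b - a, fun i hi => (hb (i + a) (by omega)).of_iso (E.shiftFunctorObjXIso a i (i + a) rfl)⟩,
    fun i hi => P.prop_of_iso (E.shiftFunctorObjXIso a i (i + a) rfl).symm (hP (i + a) (by omega))⟩, ⟨?_⟩⟩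
  exact (DerivedCategory.Q.commShiftIso a).app E ≪≫ (CategoryTheory.shiftFunctor (DerivedCategory C) a).mapIso e

theorem IsN.exists_bound {n : ℤ} {F : DerivedCategory C} (h : IsN P n F) :
    ∃ b : ℤ, ∀ i, b < i → IsZero ((DerivedCategory.homologyFunctor C i).obj F) := by
  obtain ⟨E, ⟨⟨b, hb⟩, -⟩, ⟨e⟩⟩ := h
  refine ⟨b, fun i hi => ?_⟩
  exact ((isZero_homologyFunctor_Q_iff E i).2 (ShortComplex.isZero_homology_of_isZero_X₂ _ (hb i hi))).of_iso
    ((DerivedCategory.homologyFunctor C i).mapIso e.symm)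

theorem IsN.ft_homology [P.IsClosedUnderIsomorphisms] [P.ContainsZero] (hqs : PCoh.IsQuasiStableUnderKernels P)
    {n : ℤ} {F : DerivedCategory C} (h : IsN P n F)
    (hac : ∀ i, n < i → IsZero ((DerivedCategory.homologyFunctor C i).obj F)) :
    PCoh.IsOfFiniteType P ((DerivedCategory.homologyFunctor C n).obj F) := by
  obtain ⟨E, ⟨hb, hP⟩, ⟨e⟩⟩ := h
  refine ft_of_iso P ((DerivedCategory.homologyFunctorFactors C n).symm.app E ≪≫
    (DerivedCategory.homologyFunctor C n).mapIso e) (Groth.L13.PCoh.ft_homology P hqs E n hP hb fun i hi => ?_)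
  rw [HomologicalComplex.exactAt_iff_isZero_homology]
  exact (isZero_homologyFunctor_Q_iff E i).1 ((hac i hi).of_iso ((DerivedCategory.homologyFunctor C i).mapIso e))

end Approx

end Groth.L13.PCoh
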