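/-
Objects of finite type and precoherent objects.
-/
import Groth.Agent.L13.PCoh.Basic

set_option autoImplicit false

universe w v u

open CategoryTheory CategoryTheory.Limits

namespace Groth.L13.PCoh

variable {C : Type u} [Category.{v} C] [Abelian C] (P : ObjectProperty C)

/-- Every map from an object of `C₀` has kernel of finite type. -/
def Prec (X : C) : Prop := ∀ (E : C) (u : E ⟶ X), P E → PCoh.IsOfFiniteType P (kernel u)

theorem Prec.of_mono {X Y : C} (m : X ⟶ Y) [Mono m] (h : Prec P Y) : Prec P X := fun E u hE =>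
  ft_of_iso P (kernelCompMono u m) (h E (u ≫ m) hE)

theorem Prec.of_iso {X Y : C} (e : X ≅ Y) (h : Prec P X) : Prec P Y := h.of_mono P e.inv

/-- The kernel of a map from a finite type object to a precoherent one. -/
theorem ft_kernel {X Y : C} (u : X ⟶ Y) (hX : PCoh.IsOfFiniteType P X) (hY : Prec P Y) :
    PCoh.IsOfFiniteType P (kernel u) := by
  obtain ⟨E, π, hE, hπ⟩ := hX
  haveI : Epi (kernel.lift u (kernel.ι (π ≫ u) ≫ π) (by rw [Category.assoc, kernel.condition])) := by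
    rw [epi_iff_surjective_up_to_refinements]
    intro A x
    obtain ⟨A', p, hp, a, ha⟩ := surjective_up_to_refinements_of_epi π (x ≫ kernel.ι u)
    refine ⟨A', p, hp, kernel.lift _ a (by rw [← reassoc_of% ha, kernel.condition, comp_zero, comp_zero]), ?_⟩
    rw [← cancel_mono (kernel.ι u)]
    simp [ha]
  exact ft_of_epi P (kernel.lift u (kernel.ι (π ≫ u) ≫ π) _)
    (hY E (π ≫ u) hE)

theorem ft_X₁ {S : ShortComplex C} (hS : S.Exact) (hf : Mono S.f) (hG : PCoh.IsOfFiniteType P S.X₂)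
    (hH : Prec P S.X₃) : PCoh.IsOfFiniteType P S.X₁ :=
  haveI := hf
  ft_of_iso P ((kernelIsKernel S.g).conePointUniqueUpToIso hS.fIsKernel) (ft_kernel P S.g hG hH)

variable [P.IsClosedUnderIsomorphisms]

/-- An extension of finite type objects has finite type. -/
theorem ft_X₂ (hsum : ∀ X Y : C, P X → P Y → P (X ⨯ Y)) (hql : PCoh.IsQuasiLiftable P) {S : ShortComplex C}
    (hS : S.Exact) (hg : Epi S.g) (h₁ : PCoh.IsOfFiniteType P S.X₁) (h₃ : PCoh.IsOfFiniteType P S.X₃) :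
    PCoh.IsOfFiniteType P S.X₂ := by
  obtain ⟨E₁, π₁, hE₁, hπ₁⟩ := h₁
  obtain ⟨E₃, π₃, hE₃, hπ₃⟩ := h₃
  obtain ⟨E, t, hE, ht⟩ := hql (pullback π₃ S.g) E₃ (pullback.fst π₃ S.g) inferInstance hE₃
  refine ⟨E₁ ⊞ E, biprod.desc (π₁ ≫ S.f) (t ≫ pullback.snd π₃ S.g), prop_biprod P hsum hE₁ hE, ?_⟩
  rw [epi_iff_surjective_up_to_refinements]
  intro A y
  haveI : Epi ((t ≫ pullback.snd π₃ S.g) ≫ S.g) := by
    rw [Category.assoc, ← pullback.condition, ← Category.assoc]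
    exact epi_comp _ _
  obtain ⟨A₁, p₁, hp₁, a, ha⟩ := surjective_up_to_refinements_of_epi ((t ≫ pullback.snd π₃ S.g) ≫ S.g) (y ≫ S.g)
  obtain ⟨A₂, p₂, hp₂, b, hb⟩ := hS.exact_up_to_refinements (p₁ ≫ y - a ≫ t ≫ pullback.snd π₃ S.g)
    (by simp only [Preadditive.sub_comp, Category.assoc] at ha ⊢; rw [ha, sub_self])
  obtain ⟨A₃, p₃, hp₃, c, hc⟩ := surjective_up_to_refinements_of_epi π₁ b
  refine ⟨A₃, p₃ ≫ p₂ ≫ p₁, inferInstance, biprod.lift c (p₃ ≫ p₂ ≫ a), ?_⟩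
  rw [biprod.lift_desc]
  simp only [Category.assoc]
  rw [← reassoc_of% hc, ← hb]
  simp only [Preadditive.comp_sub]
  abel

omit [P.IsClosedUnderIsomorphisms] in
/-- An extension of precoherent objects is precoherent. -/
theorem prec_X₂ {S : ShortComplex C} (hS : S.Exact) (hf : Mono S.f) (h₁ : Prec P S.X₁) (h₃ : Prec P S.X₃) :
    Prec P S.X₂ := by
  intro E u hE
  let k : kernel (u ≫ S.g) ⟶ S.X₁ := hS.lift (kernel.ι (u ≫ S.g) ≫ u) (by rw [Category.assoc, kernel.condition])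
  have hk : k ≫ S.f = kernel.ι (u ≫ S.g) ≫ u := hS.lift_f _ _
  have w : (kernel.ι k ≫ kernel.ι (u ≫ S.g)) ≫ u = 0 := by
    rw [Category.assoc, ← hk, kernel.condition_assoc, zero_comp]
  haveI : Epi (kernel.lift u (kernel.ι k ≫ kernel.ι (u ≫ S.g)) w) := by
    haveI : IsSplitEpi (kernel.lift u (kernel.ι k ≫ kernel.ι (u ≫ S.g)) w) := by
      refine ⟨⟨⟨kernel.lift k (kernel.lift _ (kernel.ι u) (by simp)) ?_, ?_⟩⟩⟩
      · rw [← cancel_mono S.f, Category.assoc, hk, kernel.lift_ι_assoc, kernel.condition, zero_comp]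
      · rw [← cancel_mono (kernel.ι u)]; simp
    infer_instance
  exact ft_of_epi P (kernel.lift u (kernel.ι k ≫ kernel.ι (u ≫ S.g)) w)
    (ft_kernel P k (h₃ E (u ≫ S.g) hE) h₁)

/-- The cokernel of a map from a finite type object to a precoherent one is precoherent. -/
theorem prec_X₃ (hsum : ∀ X Y : C, P X → P Y → P (X ⨯ Y)) (hql : PCoh.IsQuasiLiftable P) {S : ShortComplex C}
    (hS : S.Exact) (hg : Epi S.g) (h₁ : PCoh.IsOfFiniteType P S.X₁) (h₂ : Prec P S.X₂) : Prec P S.X₃ := by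
  intro E u hE
  obtain ⟨E₁, π₁, hE₁, hπ₁⟩ := h₁
  obtain ⟨E', t, hE', ht⟩ := hql (pullback u S.g) E (pullback.fst u S.g) inferInstance hE
  let q : E' ⟶ E := t ≫ pullback.fst u S.g
  let w : E' ⟶ S.X₂ := t ≫ pullback.snd u S.g
  have hwq : w ≫ S.g = q ≫ u := by simp [w, q, pullback.condition]
  let d : E₁ ⊞ E' ⟶ S.X₂ := biprod.desc (π₁ ≫ S.f) w
  have hd : (kernel.ι d ≫ biprod.snd ≫ q) ≫ u = 0 := by
    simp only [Category.assoc, ← hwq]
    rw [show (biprod.snd : E₁ ⊞ E' ⟶ E') ≫ w ≫ S.g = d ≫ S.g by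
      ext <;> simp [d, S.zero], kernel.condition_assoc, zero_comp]
  haveI : Epi (kernel.lift u _ hd) := by
    rw [epi_iff_surjective_up_to_refinements]
    intro A y
    haveI : Epi q := ht
    obtain ⟨A₁, p₁, hp₁, a, ha⟩ := surjective_up_to_refinements_of_epi q (y ≫ kernel.ι u)
    obtain ⟨A₂, p₂, hp₂, b, hb⟩ := hS.exact_up_to_refinements (a ≫ w)
      (by rw [Category.assoc, hwq, ← reassoc_of% ha, kernel.condition, comp_zero, comp_zero])
    obtain ⟨A₃, p₃, hp₃, c, hc⟩ := surjective_up_to_refinements_of_epi π₁ b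
    refine ⟨A₃, p₃ ≫ p₂ ≫ p₁, inferInstance, kernel.lift d (biprod.lift (-c) (p₃ ≫ p₂ ≫ a)) ?_, ?_⟩
    · simp only [d, biprod.lift_desc, Preadditive.neg_comp, Category.assoc, hb, ← reassoc_of% hc,
        neg_add_cancel]
    · rw [← cancel_mono (kernel.ι u)]
      simp [ha]
  exact ft_of_epi P (kernel.lift u _ hd) (h₂ _ d (prop_biprod P hsum hE₁ hE'))

end Groth.L13.PCoh
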