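/-
One step of an approximation by objects of `C₀`.
-/
import Groth.Agent.L13.PCoh.Basic
import Groth.Agent.S5600
import Mathlib.Algebra.Homology.SingleHomology

set_option autoImplicit false

universe w v u

open CategoryTheory CategoryTheory.Limits Pretriangulated CochainComplex HomologicalComplex

namespace Groth.L13.PCoh

variable {C : Type u} [Category.{v} C] [Abelian C] [HasDerivedCategory.{w} C]
  (P : ObjectProperty C) [P.IsClosedUnderIsomorphisms] [P.ContainsZero]

theorem exists_single_map (hql : PCoh.IsQuasiLiftable P) (Y : CochainComplex C ℤ) (j : ℤ)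
    (h : PCoh.IsOfFiniteType P (Y.homology j)) :
    ∃ (P₁ : C) (g : (HomologicalComplex.single C (ComplexShape.up ℤ) j).obj P₁ ⟶ Y),
      P P₁ ∧ Epi (HomologicalComplex.homologyMap g j) := by
  obtain ⟨P₀, π, hP₀, hπ⟩ := h
  obtain ⟨P₁, t, hP₁, ht⟩ := hql (pullback π (Y.homologyπ j)) P₀ (pullback.fst π (Y.homologyπ j)) inferInstance hP₀
  let z : P₁ ⟶ Y.cycles j := t ≫ pullback.snd π (Y.homologyπ j)
  have hz : Epi (z ≫ Y.homologyπ j) := by
    rw [show z ≫ Y.homologyπ j = (t ≫ pullback.fst π (Y.homologyπ j)) ≫ π by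
      simp only [z, Category.assoc, pullback.condition]]
    exact epi_comp _ _
  let g : (HomologicalComplex.single C (ComplexShape.up ℤ) j).obj P₁ ⟶ Y :=
    mkHomFromSingle (z ≫ Y.iCycles j) fun k _ => by rw [Category.assoc, iCycles_d, comp_zero]
  refine ⟨P₁, g, hP₁, ?_⟩
  have h1 : (singleObjCyclesSelfIso (ComplexShape.up ℤ) j P₁).inv ≫ cyclesMap g j = z := by
    rw [← cancel_mono (Y.iCycles j), Category.assoc, cyclesMap_i, singleObjCyclesSelfIso_inv_iCycles_assoc,
      mkHomFromSingle_f, Iso.inv_hom_id_assoc]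
  have h2 : (singleObjHomologySelfIso (ComplexShape.up ℤ) j P₁).inv ≫ HomologicalComplex.homologyMap g j =
      z ≫ Y.homologyπ j := by
    rw [← h1, Category.assoc, ← homologyπ_naturality, singleObjCyclesSelfIso_inv_homologyπ_assoc]
  exact epi_of_epi_fac h2

/-- The homology of a mapping cocone. -/
noncomputable def coconeHomologyIso {E F : CochainComplex C ℤ} (u : E ⟶ F) (i j : ℤ) (h : (-1 : ℤ) + j = i) :
    (mappingCocone u).homology j ≅ (mappingCone u).homology i :=
  ((HomologicalComplex.homologyFunctor C (ComplexShape.up ℤ) 0).shiftIso (-1) j i h).app (mappingCone u)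

set_option maxHeartbeats 1000000 in
/-- One step down. -/
theorem step (hql : PCoh.IsQuasiLiftable P) (n : ℤ) {E F : CochainComplex C ℤ} (u : E ⟶ F)
    (hu : Approx (DerivedCategory.Q.map u) (n + 1)) (hcone : PCoh.IsOfFiniteType P ((mappingCone u).homology n)) :
    ∃ (E' : CochainComplex C ℤ) (v : E ⟶ E') (u' : E' ⟶ F) (P₁ : C), v ≫ u' = u ∧ (∀ i : ℤ, Mono (v.f i)) ∧
      (∀ i : ℤ, i ≠ n → IsIso (v.f i)) ∧ P (cokernel (v.f n)) ∧ P P₁ ∧ Nonempty (E'.X n ≅ P₁ ⊞ E.X n) ∧
      Approx (DerivedCategory.Q.map u') n := by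
  obtain ⟨P₁, g, hP₁, hge⟩ := exists_single_map P hql (mappingCocone u) (n + 1)
    (ft_of_iso P (coconeHomologyIso u n (n + 1) (by omega)).symm hcone)
  have hg : Approx (DerivedCategory.Q.map g) (n + 1) := by
    refine (approx_Q_iff g (n + 1)).2 ⟨fun i hi => ?_, hge⟩
    have h1 : IsZero (((HomologicalComplex.single C (ComplexShape.up ℤ) (n + 1)).obj P₁).homology i) :=
      HomologicalComplex.isZero_single_obj_homology (ComplexShape.up ℤ) (n + 1) P₁ i (by omega)
    have h2 : IsZero ((mappingCocone u).homology i) :=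
      ((exactAt_iff_isZero_homology _ _).1 ((approx_iff_exactAt_cone u (n + 1)).1 hu (i - 1) (by omega))).of_iso
        (coconeHomologyIso u (i - 1) i (by omega))
    exact ⟨0, h1.eq_of_src _ _, h2.eq_of_tgt _ _⟩
  let g' : (HomologicalComplex.single C (ComplexShape.up ℤ) (n + 1)).obj P₁ ⟶ E := g ≫ mappingCocone.fst u
  let m : mappingCone g' ⟶ mappingCone (mappingCocone.fst u) :=
    mappingCone.map g' (mappingCocone.fst u) g (𝟙 E) (by simp [g'])
  have hw : QuasiIso (Groth.Agent.S5600.w u) := inferInstanceAs (QuasiIso (Groth.Agent.S5600.equivW u).hom)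
  have hm : Approx (DerivedCategory.Q.map m) n := by
    let τ := DerivedCategory.Q.mapTriangle.map
      (mappingCone.triangleMap g' (mappingCocone.fst u) g (𝟙 E) (by simp [g']))
    haveI : IsIso τ.hom₂ := show IsIso (DerivedCategory.Q.map (𝟙 E)) from inferInstance
    exact approx_hom₃ (DerivedCategory.mappingCone_triangle_distinguished g')
      (DerivedCategory.mappingCone_triangle_distinguished (mappingCocone.fst u)) τ n hg
  refine ⟨mappingCone g', mappingCone.inr g', m ≫ Groth.Agent.S5600.w u, P₁, ?_, fun i => ?_, fun i hi => ?_, ?_,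
    hP₁, ⟨coneXIso g' n ≪≫ biprod.mapIso (singleObjXSelf (ComplexShape.up ℤ) (n + 1) P₁) (Iso.refl _)⟩, ?_⟩
  · simp [m, Groth.Agent.S5600.w, mappingCone.map]
  · exact mono_of_mono_fac (mappingCone.inr_f_snd_v g' i)
  · refine ⟨(mappingCone.snd g').v i i (add_zero i), mappingCone.inr_f_snd_v g' i, ?_⟩
    have hz : (mappingCone.fst g').1.v i (i + 1) rfl = 0 :=
      (HomologicalComplex.isZero_single_obj_X (ComplexShape.up ℤ) (n + 1) P₁ (i + 1) (by omega)).eq_of_tgt _ _
    simpa [hz] using mappingCone.id_X g' i (i + 1) rfl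
  · let c : CokernelCofork ((mappingCone.inr g').f n) :=
      CokernelCofork.ofπ ((mappingCone.fst g').1.v n (n + 1) rfl) (mappingCone.inr_f_fst_v g' n (n + 1) rfl)
    haveI : Epi ((mappingCone.fst g').1.v n (n + 1) rfl) :=
      (SplitEpi.mk ((mappingCone.inl g').v (n + 1) n (by omega)) (mappingCone.inl_v_fst_v g' (n + 1) n rfl)).epi
    have hc : IsColimit c := CokernelCofork.IsColimit.ofπ' _ _ fun {W} k hk => by
      refine ⟨(mappingCone.inl g').v (n + 1) n (by omega) ≫ k, ?_⟩
      refine mappingCone.ext_from _ (n + 1) n rfl ?_ ?_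
      · simp
      · simp [hk]
    exact P.prop_of_iso ((cokernelIsCokernel _).coconePointUniqueUpToIso hc ≪≫
      singleObjXSelf (ComplexShape.up ℤ) (n + 1) P₁).symm hP₁
  · rw [Functor.map_comp]
    exact hm.comp (Approx.of_isIso _ n)

end Groth.L13.PCoh
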