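/-
Approximations by strictly pseudo-coherent complexes and stability under triangles.
-/
import Groth.Agent.L13.PCoh.Step

set_option autoImplicit false

universe w v u

open CategoryTheory CategoryTheory.Limits Pretriangulated ZeroObject

namespace Groth.L13.PCoh

variable {C : Type u} [Category.{v} C] [Abelian C] [HasDerivedCategory.{w} C]
  (P : ObjectProperty C) [P.IsClosedUnderIsomorphisms] [P.ContainsZero]

/-- The finiteness needed to go one step down in an approximation of `F`. -/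
def Crit (n : ℤ) (F : CochainComplex C ℤ) : Prop :=
  ∀ k, n ≤ k → ∀ (E : CochainComplex C ℤ) (u : E ⟶ F), PCoh.IsStrictPC P n E →
    Approx (DerivedCategory.Q.map u) (k + 1) → PCoh.IsOfFiniteType P ((CochainComplex.mappingCone u).homology k)

theorem descend (hsum : ∀ X Y : C, P X → P Y → P (X ⨯ Y)) (hql : PCoh.IsQuasiLiftable P) (n : ℤ)
    {E F : CochainComplex C ℤ} (u : E ⟶ F) (hE : PCoh.IsStrictPC P n E) (i : ℤ) (hni : n ≤ i)
    (hu : Approx (DerivedCategory.Q.map u) i) (hF : Crit P n F) :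
    ∃ (E' : CochainComplex C ℤ) (v : E ⟶ E') (u' : E' ⟶ F), v ≫ u' = u ∧ PCoh.IsStrictPC P n E' ∧
      Approx (DerivedCategory.Q.map u') n ∧ (∀ j, Mono (v.f j)) ∧ (∀ j, i ≤ j → IsIso (v.f j)) ∧
      (∀ j, j < n → IsIso (v.f j)) := by
  suffices h : ∀ k, k ≤ i → n ≤ k →
      ∃ (E' : CochainComplex C ℤ) (v : E ⟶ E') (u' : E' ⟶ F), v ≫ u' = u ∧ PCoh.IsStrictPC P n E' ∧
        Approx (DerivedCategory.Q.map u') k ∧ (∀ j, Mono (v.f j)) ∧ (∀ j, i ≤ j → IsIso (v.f j)) ∧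
        (∀ j, j < n → IsIso (v.f j)) from h n hni le_rfl
  intro k hk
  induction k, hk using Int.le_induction_down with
  | base => exact fun _ => ⟨E, 𝟙 E, u, Category.id_comp u, hE, hu, fun j => inferInstance,
      fun j _ => inferInstance, fun j _ => inferInstance⟩
  | pred k hk ih =>
    intro hnk
    obtain ⟨E', v, u', hvu, hE', hu', hm, hhi, hlo⟩ := ih (by omega)
    have hu'' : Approx (DerivedCategory.Q.map u') (k - 1 + 1) := by rwa [sub_add_cancel]
    obtain ⟨E'', w, u'', P₁, hwu, hwm, hwi, -, hP₁, ⟨e⟩, hu3⟩ :=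
      step P hql (k - 1) u' hu'' (hF (k - 1) hnk E' u' hE' hu'')
    refine ⟨E'', v ≫ w, u'', by rw [Category.assoc, hwu, hvu], ⟨?_, fun j hj => ?_⟩, hu3,
      fun j => ?_, fun j hj => ?_, fun j hj => ?_⟩
    · obtain ⟨b, hb⟩ := hE'.1
      refine ⟨max b k, fun j hj => ?_⟩
      haveI := hwi j (by omega)
      exact (hb j (by omega)).of_iso (asIso (w.f j)).symm
    · rcases eq_or_ne j (k - 1) with rfl | hne
      · exact P.prop_of_iso e.symm (prop_biprod P hsum hP₁ (hE'.2 _ hj))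
      · haveI := hwi j hne
        exact P.prop_of_iso (asIso (w.f j)) (hE'.2 j hj)
    · have := hm j; have := hwm j
      rw [HomologicalComplex.comp_f]; exact mono_comp _ _
    · have := hhi j hj; have := hwi j (by omega)
      rw [HomologicalComplex.comp_f]; infer_instance
    · have := hlo j hj; have := hwi j (by omega)
      rw [HomologicalComplex.comp_f]; infer_instance

/-- Factor a map from a strictly `n`-pseudo-coherent complex through a quasi-isomorphism. -/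
theorem complete_of_crit (hsum : ∀ X Y : C, P X → P Y → P (X ⨯ Y)) (hql : PCoh.IsQuasiLiftable P) (n : ℤ)
    {E F : CochainComplex C ℤ} (u : E ⟶ F) (hE : PCoh.IsStrictPC P n E) (i : ℤ)
    (hu : Approx (DerivedCategory.Q.map u) i) (hF : Crit P n F) :
    ∃ (E' : CochainComplex C ℤ) (v : E ⟶ E') (u' : E' ⟶ F), v ≫ u' = u ∧ PCoh.IsStrictPC P n E' ∧
      QuasiIso u' ∧ (∀ j, Mono (v.f j)) ∧ (∀ j, i ≤ j → IsIso (v.f j)) := by
  obtain ⟨E₁, v₁, u₁, h₁, hE₁, hu₁, hm₁, hhi₁⟩ : ∃ (E₁ : CochainComplex C ℤ) (v₁ : E ⟶ E₁) (u₁ : E₁ ⟶ F),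
      v₁ ≫ u₁ = u ∧ PCoh.IsStrictPC P n E₁ ∧ Approx (DerivedCategory.Q.map u₁) (min i n) ∧
      (∀ j, Mono (v₁.f j)) ∧ (∀ j, i ≤ j → IsIso (v₁.f j)) := by
    rcases le_total i n with h | h
    · exact ⟨E, 𝟙 E, u, Category.id_comp u, hE, by rwa [min_eq_left h], fun j => inferInstance,
        fun j _ => inferInstance⟩
    · obtain ⟨E', v, u', h1, h2, h3, h4, h5, -⟩ := descend P hsum hql n u hE i h hu hF
      exact ⟨E', v, u', h1, h2, by rwa [min_eq_right h], h4, h5⟩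
  obtain ⟨hiso, hepi⟩ := (approx_Q_iff u₁ (min i n)).1 hu₁
  obtain ⟨E', v, u', hvu, hq, hm, hi⟩ := Groth.Agent.S5600.result (min i n) E₁ F u₁ hiso hepi
  refine ⟨E', v₁ ≫ v, u', by rw [Category.assoc, hvu, h₁], ⟨?_, fun j hj => ?_⟩, hq, fun j => ?_, fun j hj => ?_⟩
  · obtain ⟨b, hb⟩ := hE₁.1
    refine ⟨max b n, fun j hj => ?_⟩
    haveI := hi j (by omega)
    exact (hb j (by omega)).of_iso (asIso (v.f j)).symm
  · haveI := hi j (by omega)
    exact P.prop_of_iso (asIso (v.f j)) (hE₁.2 j hj)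
  · have := hm₁ j; have := hm j
    rw [HomologicalComplex.comp_f]; exact mono_comp _ _
  · have := hhi₁ j hj; have := hi j (by omega)
    rw [HomologicalComplex.comp_f]; infer_instance

omit [HasDerivedCategory.{w} C] [P.IsClosedUnderIsomorphisms] in
theorem isZero_zero_X (j : ℤ) : IsZero ((0 : CochainComplex C ℤ).X j) :=
  (HomologicalComplex.eval C (ComplexShape.up ℤ) j).map_isZero (isZero_zero _)

theorem isStrictPC_zero (n : ℤ) : PCoh.IsStrictPC P n (0 : CochainComplex C ℤ) :=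
  ⟨⟨0, fun j _ => isZero_zero_X j⟩, fun j _ => prop_of_isZero P (isZero_zero_X j)⟩

theorem approx_zero {F : CochainComplex C ℤ} (m : ℤ) (h : ∀ i, m ≤ i → IsZero (F.homology i)) :
    Approx (DerivedCategory.Q.map (0 : (0 : CochainComplex C ℤ) ⟶ F)) m := by
  have h0 : ∀ i, IsZero ((0 : CochainComplex C ℤ).homology i) := fun i =>
    (HomologicalComplex.homologyFunctor C (ComplexShape.up ℤ) i).map_isZero (isZero_zero _)
  exact (approx_Q_iff _ m).2 ⟨fun i hi => ⟨0, (h0 i).eq_of_src _ _, (h i hi.le).eq_of_tgt _ _⟩,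
    ⟨fun g g' _ => (h m le_rfl).eq_of_src _ _⟩⟩

theorem exists_bound_homology {F : CochainComplex C ℤ} {n : ℤ} (h : IsN P n (DerivedCategory.Q.obj F)) :
    ∃ b : ℤ, ∀ i, b < i → IsZero (F.homology i) := by
  obtain ⟨b, hb⟩ := h.exists_bound P
  exact ⟨b, fun i hi => (isZero_homologyFunctor_Q_iff F i).1 (hb i hi)⟩

theorem crit_of_quasiIso (hsum : ∀ X Y : C, P X → P Y → P (X ⨯ Y)) (hqs : PCoh.IsQuasiStableUnderKernels P)
    {n : ℤ} {X F : CochainComplex C ℤ} (s : X ⟶ F) [QuasiIso s] (hF : PCoh.IsStrictPC P n F) :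
    Crit P n X := by
  intro k hk E u hE hu
  have hu' : Approx (DerivedCategory.Q.map (u ≫ s)) (k + 1) := by
    rw [Functor.map_comp]
    exact hu.comp (Approx.of_isIso _ _)
  have hK := isStrictPC_cone P hsum (u ≫ s) n ⟨hE.1, fun i hi => hE.2 i (by omega)⟩ hF
  have h1 := Groth.L13.PCoh.ft_homology P hqs (CochainComplex.mappingCone (u ≫ s)) k
    (fun i hi => hK.2 i (hk.trans hi)) hK.1
    (fun i hi => (approx_iff_exactAt_cone (u ≫ s) (k + 1)).1 hu' i (by omega))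
  let m : CochainComplex.mappingCone u ⟶ CochainComplex.mappingCone (u ≫ s) :=
    CochainComplex.mappingCone.map u (u ≫ s) (𝟙 E) s (by simp)
  haveI : QuasiIso m := by
    let τ := DerivedCategory.Q.mapTriangle.map
      (CochainComplex.mappingCone.triangleMap u (u ≫ s) (𝟙 E) s (by simp))
    rw [← DerivedCategory.isIso_Q_map_iff_quasiIso]
    exact isIso₃_of_isIso₁₂ τ (DerivedCategory.mappingCone_triangle_distinguished u)
      (DerivedCategory.mappingCone_triangle_distinguished (u ≫ s))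
      (show IsIso (DerivedCategory.Q.map (𝟙 E)) from inferInstance)
      (show IsIso (DerivedCategory.Q.map s) from inferInstance)
  exact ft_of_iso P (asIso (HomologicalComplex.homologyMap m k)).symm h1

/-- Replace a complex quasi-isomorphic to a strictly pseudo-coherent one. -/
theorem replace (hsum : ∀ X Y : C, P X → P Y → P (X ⨯ Y)) (hqs : PCoh.IsQuasiStableUnderKernels P)
    (hql : PCoh.IsQuasiLiftable P) {n : ℤ} {X F : CochainComplex C ℤ} (s : X ⟶ F) [QuasiIso s]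
    (hF : PCoh.IsStrictPC P n F) :
    ∃ (Z : CochainComplex C ℤ) (t : Z ⟶ X), PCoh.IsStrictPC P n Z ∧ QuasiIso t := by
  obtain ⟨b, hb⟩ := hF.1
  obtain ⟨Z, -, t, -, hZ, ht, -, -⟩ := complete_of_crit P hsum hql n (0 : (0 : CochainComplex C ℤ) ⟶ X)
    (isStrictPC_zero P n) (max n (b + 1)) (approx_zero _ fun i hi =>
      (ShortComplex.isZero_homology_of_isZero_X₂ _ (hb i (by omega))).of_iso
        (isoOfQuasiIsoAt s i)) (crit_of_quasiIso P hsum hqs s hF)
  exact ⟨Z, t, hZ, ht⟩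

/-- Maps in `D(C)` out of a strictly pseudo-coherent complex. -/
theorem roof (hsum : ∀ X Y : C, P X → P Y → P (X ⨯ Y)) (hqs : PCoh.IsQuasiStableUnderKernels P)
    (hql : PCoh.IsQuasiLiftable P) {n : ℤ} {E F : CochainComplex C ℤ} (hE : PCoh.IsStrictPC P n E)
    (α : DerivedCategory.Q.obj E ⟶ DerivedCategory.Q.obj F) :
    ∃ (Z : CochainComplex C ℤ) (s : Z ⟶ E) (f : Z ⟶ F), PCoh.IsStrictPC P n Z ∧ QuasiIso s ∧
      DerivedCategory.Q.map s ≫ α = DerivedCategory.Q.map f := by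
  obtain ⟨X, s, hs, g, rfl⟩ := DerivedCategory.right_fac α
  haveI : QuasiIso s := by rwa [← DerivedCategory.isIso_Q_map_iff_quasiIso]
  obtain ⟨Z, t, hZ, ht⟩ := replace P hsum hqs hql s hE
  refine ⟨Z, t ≫ s, t ≫ g, hZ, inferInstance, ?_⟩
  rw [Functor.map_comp, Functor.map_comp, Category.assoc, IsIso.hom_inv_id_assoc]

theorem isN_obj₃ (hsum : ∀ X Y : C, P X → P Y → P (X ⨯ Y)) (hqs : PCoh.IsQuasiStableUnderKernels P)
    (hql : PCoh.IsQuasiLiftable P) {n : ℤ} {T : Triangle (DerivedCategory C)} (hT : T ∈ distTriang _)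
    (h₁ : IsN P (n + 1) T.obj₁) (h₂ : IsN P n T.obj₂) : IsN P n T.obj₃ := by
  obtain ⟨E, hE, ⟨e₁⟩⟩ := h₁
  obtain ⟨F, hF, ⟨e₂⟩⟩ := h₂
  obtain ⟨Z, s, f, hZ, hs, hsf⟩ := roof P hsum hqs hql hE (e₁.hom ≫ T.mor₁ ≫ e₂.inv)
  haveI : IsIso (DerivedCategory.Q.map s) := by rwa [DerivedCategory.isIso_Q_map_iff_quasiIso]
  let es : DerivedCategory.Q.obj Z ≅ T.obj₁ := asIso (DerivedCategory.Q.map s) ≪≫ e₁
  refine ⟨CochainComplex.mappingCone f, isStrictPC_cone P hsum f n hZ hF, ⟨Triangle.π₃.mapIso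
    (isoTriangleOfIso₁₂ _ T (DerivedCategory.mappingCone_triangle_distinguished f) hT es e₂ ?_)⟩⟩
  change DerivedCategory.Q.map f ≫ e₂.hom = (DerivedCategory.Q.map s ≫ e₁.hom) ≫ T.mor₁
  rw [← hsf, Category.assoc, Category.assoc, Category.assoc, Category.assoc, Iso.inv_hom_id, Category.comp_id]

theorem isN_obj₂ (hsum : ∀ X Y : C, P X → P Y → P (X ⨯ Y)) (hqs : PCoh.IsQuasiStableUnderKernels P)
    (hql : PCoh.IsQuasiLiftable P) {n : ℤ} {T : Triangle (DerivedCategory C)} (hT : T ∈ distTriang _)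
    (h₁ : IsN P n T.obj₁) (h₃ : IsN P n T.obj₃) : IsN P n T.obj₂ :=
  isN_obj₃ P hsum hqs hql (inv_rot_of_distTriang _ hT) (h₃.shift P (-1) (n + 1) (by omega)) h₁

theorem isN_obj₁ (hsum : ∀ X Y : C, P X → P Y → P (X ⨯ Y)) (hqs : PCoh.IsQuasiStableUnderKernels P)
    (hql : PCoh.IsQuasiLiftable P) {n : ℤ} {T : Triangle (DerivedCategory C)} (hT : T ∈ distTriang _)
    (h₂ : IsN P (n + 1) T.obj₂) (h₃ : IsN P n T.obj₃) : IsN P (n + 1) T.obj₁ :=
  ((isN_obj₃ P hsum hqs hql (rot_of_distTriang _ hT) h₂ h₃).shift P (-1) (n + 1) (by omega)).of_iso P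
    ((shiftFunctorCompIsoId (DerivedCategory C) (1 : ℤ) (-1) (by omega)).app T.obj₁)

theorem crit (hsum : ∀ X Y : C, P X → P Y → P (X ⨯ Y)) (hqs : PCoh.IsQuasiStableUnderKernels P)
    (hql : PCoh.IsQuasiLiftable P) {n : ℤ} {F : CochainComplex C ℤ} (hF : IsN P n (DerivedCategory.Q.obj F)) :
    Crit P n F := by
  intro k hk E u hE hu
  have hT := DerivedCategory.mappingCone_triangle_distinguished u
  have h3 := isN_obj₃ P hsum hqs hql hT (n := k)
    (show IsN P (k + 1) (DerivedCategory.Q.obj E) from ⟨E, ⟨hE.1, fun i hi => hE.2 i (by omega)⟩, ⟨Iso.refl _⟩⟩)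
    (hF.mono P hk)
  exact ft_of_iso P ((DerivedCategory.homologyFunctorFactors C k).app (CochainComplex.mappingCone u))
    (h3.ft_homology P hqs fun i hi => (approx_iff_triangle _ hT (k + 1)).1 hu i (by omega))

/-- The factorisation, for any `n`-pseudo-coherent target. -/
theorem complete (hsum : ∀ X Y : C, P X → P Y → P (X ⨯ Y)) (hqs : PCoh.IsQuasiStableUnderKernels P)
    (hql : PCoh.IsQuasiLiftable P) {n : ℤ} {E F : CochainComplex C ℤ} (u : E ⟶ F) (hE : PCoh.IsStrictPC P n E)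
    (hF : IsN P n (DerivedCategory.Q.obj F)) (i : ℤ) (hu : Approx (DerivedCategory.Q.map u) i) :
    ∃ (E' : CochainComplex C ℤ) (v : E ⟶ E') (u' : E' ⟶ F), v ≫ u' = u ∧ PCoh.IsStrictPC P n E' ∧
      QuasiIso u' ∧ (∀ j, Mono (v.f j)) ∧ (∀ j, i ≤ j → IsIso (v.f j)) :=
  complete_of_crit P hsum hql n u hE i hu (crit P hsum hqs hql hF)

/-- An approximation by a strictly pseudo-coherent complex gives pseudo-coherence. -/
theorem isN_of_approx_Q (hsum : ∀ X Y : C, P X → P Y → P (X ⨯ Y)) (hql : PCoh.IsQuasiLiftable P) {n : ℤ}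
    {E F : CochainComplex C ℤ} (u : E ⟶ F) (hE : PCoh.IsStrictPC P n E)
    (hu : Approx (DerivedCategory.Q.map u) n) : IsN P n (DerivedCategory.Q.obj F) := by
  obtain ⟨hiso, hepi⟩ := (approx_Q_iff u n).1 hu
  obtain ⟨E', v, u', -, hq, -, hi⟩ := Groth.Agent.S5600.result n E F u hiso hepi
  refine ⟨E', ⟨?_, fun j hj => ?_⟩, ⟨asIso (DerivedCategory.Q.map u')⟩⟩
  · obtain ⟨b, hb⟩ := hE.1
    refine ⟨max b n, fun j hj => ?_⟩
    haveI := hi j (by omega)
    exact (hb j (by omega)).of_iso (asIso (v.f j)).symm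
  · haveI := hi j hj
    exact P.prop_of_iso (asIso (v.f j)) (hE.2 j hj)

theorem isN_of_isLE (hsum : ∀ X Y : C, P X → P Y → P (X ⨯ Y)) (hql : PCoh.IsQuasiLiftable P) {n : ℤ}
    {F : DerivedCategory C} (h : ∀ i, n ≤ i → IsZero ((DerivedCategory.homologyFunctor C i).obj F)) :
    IsN P n F :=
  (isN_of_approx_Q P hsum hql (0 : (0 : CochainComplex C ℤ) ⟶ DerivedCategory.Q.objPreimage F) (isStrictPC_zero P n)
    (approx_zero n fun i hi => (isZero_homologyFunctor_Q_iff _ i).1 ((h i hi).of_iso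
      ((DerivedCategory.homologyFunctor C i).mapIso (DerivedCategory.Q.objObjPreimageIso F))))).of_iso P
    (DerivedCategory.Q.objObjPreimageIso F)

theorem isN_of_approx (hsum : ∀ X Y : C, P X → P Y → P (X ⨯ Y)) (hqs : PCoh.IsQuasiStableUnderKernels P)
    (hql : PCoh.IsQuasiLiftable P) {n : ℤ} {E : CochainComplex C ℤ} {F : DerivedCategory C}
    (hE : PCoh.IsStrictPC P n E) (α : DerivedCategory.Q.obj E ⟶ F) (hα : Approx α n) : IsN P n F := by
  obtain ⟨Z, s, f, hZ, hs, hsf⟩ := roof P hsum hqs hql hE (α ≫ (DerivedCategory.Q.objObjPreimageIso F).inv)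
  refine (isN_of_approx_Q P hsum hql f hZ ?_).of_iso P (DerivedCategory.Q.objObjPreimageIso F)
  rw [← hsf]
  haveI : IsIso (DerivedCategory.Q.map s) := by rwa [DerivedCategory.isIso_Q_map_iff_quasiIso]
  exact (Approx.of_isIso _ n).comp (hα.comp (Approx.of_isIso _ n))

end Groth.L13.PCoh
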