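/-
Infinitely many steps: approximation by strictly pseudo-coherent complexes.
-/
import Groth.Agent.L13.PCoh.Descend
import Mathlib.Algebra.Homology.HomologicalComplexLimits
import Mathlib.CategoryTheory.Functor.OfSequence
import Mathlib.CategoryTheory.Limits.Constructions.EventuallyConstant

set_option autoImplicit false

universe w v u

open CategoryTheory CategoryTheory.Limits Pretriangulated ZeroObject

namespace Groth.L13.PCoh

variable {C : Type u} [Category.{v} C] [Abelian C]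

section Sequence

variable {E : ℕ → CochainComplex C ℤ} (w : ∀ m, E m ⟶ E (m + 1))

theorem seq_map_prop (j : ℤ) {Q : MorphismProperty C} [Q.IsMultiplicative] {N : ℕ}
    (h : ∀ m, N ≤ m → Q ((w m).f j)) {a b : ℕ} (hab : a ≤ b) (hN : N ≤ a) :
    Q (((Functor.ofSequence w).map (homOfLE hab)).f j) := by
  induction b, hab using Nat.le_induction with
  | base =>
    rw [Subsingleton.elim (homOfLE (le_refl a)) (𝟙 a), CategoryTheory.Functor.map_id, HomologicalComplex.id_f]
    exact Q.id_mem _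
  | succ b hab ih =>
    rw [← homOfLE_comp hab (Nat.le_add_right b 1), Functor.map_comp, HomologicalComplex.comp_f,
      Functor.ofSequence_map_homOfLE_succ]
    exact Q.comp_mem _ _ ih (h b (hN.trans hab))

theorem seq_eventually (j : ℤ) {N : ℕ} (h : ∀ m, N ≤ m → IsIso ((w m).f j)) :
    (Functor.ofSequence w ⋙ HomologicalComplex.eval C _ j).IsEventuallyConstantFrom N := by
  intro b f
  have := seq_map_prop w j (Q := MorphismProperty.isomorphisms C) (N := N) h (leOfHom f) le_rfl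
  rw [show homOfLE (leOfHom f) = f from rfl] at this
  exact this

theorem seq_hasColimit (hst : ∀ j, ∃ N, ∀ m, N ≤ m → IsIso ((w m).f j)) (j : ℤ) :
    HasColimit (Functor.ofSequence w ⋙ HomologicalComplex.eval C _ j) := by
  obtain ⟨N, hN⟩ := hst j
  exact (seq_eventually w j hN).hasColimit

theorem seq_isIso_ι (hst : ∀ j, ∃ N, ∀ m, N ≤ m → IsIso ((w m).f j)) [HasColimit (Functor.ofSequence w)]
    (j : ℤ) {N : ℕ} (hN : ∀ m, N ≤ m → IsIso ((w m).f j)) :
    IsIso ((colimit.ι (Functor.ofSequence w) N).f j) := by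
  haveI := fun n => seq_hasColimit w hst n
  exact (seq_eventually w j hN).isIso_ι_of_isColimit
    (isColimitOfPreserves (HomologicalComplex.eval C _ j) (colimit.isColimit (Functor.ofSequence w)))

/-- The union of a sequence of complexes stabilizing in each degree. -/
theorem exists_union {F : CochainComplex C ℤ} (u : ∀ m, E m ⟶ F) (hu : ∀ m, w m ≫ u (m + 1) = u m)
    (hst : ∀ j, ∃ N, ∀ m, N ≤ m → IsIso ((w m).f j)) :
    ∃ (L : CochainComplex C ℤ) (ι : ∀ m, E m ⟶ L) (t : L ⟶ F), (∀ m, ι m ≫ t = u m) ∧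
      (∀ (j : ℤ) (N : ℕ), (∀ m, N ≤ m → IsIso ((w m).f j)) → IsIso ((ι N).f j)) ∧
      (∀ j : ℤ, (∀ m, Mono ((w m).f j)) → Mono ((ι 0).f j)) := by
  haveI := fun n => seq_hasColimit w hst n
  let c : Cocone (Functor.ofSequence w) :=
    { pt := F
      ι := NatTrans.ofSequence (G := (Functor.const ℕ).obj F) u fun m => by
        rw [Functor.ofSequence_map_homOfLE_succ]
        exact (hu m).trans (Category.comp_id _).symm }
  refine ⟨colimit (Functor.ofSequence w), colimit.ι (Functor.ofSequence w), colimit.desc _ c,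
    fun m => colimit.ι_desc c m, fun j N hN => seq_isIso_ι w hst j hN, fun j hm => ?_⟩
  obtain ⟨N, hN⟩ := hst j
  have := seq_isIso_ι w hst j hN
  have := seq_map_prop w j (Q := MorphismProperty.monomorphisms C) (N := 0) (fun m _ => hm m)
    (Nat.zero_le N) le_rfl
  have hm' : Mono (((Functor.ofSequence w).map (homOfLE (Nat.zero_le N))).f j) := this
  rw [← colimit.w (Functor.ofSequence w) (homOfLE (Nat.zero_le N)), HomologicalComplex.comp_f]
  exact @mono_comp _ _ _ _ _ _ hm' _ inferInstance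

end Sequence

variable [HasDerivedCategory.{w} C]
  (P : ObjectProperty C) [P.IsClosedUnderIsomorphisms] [P.ContainsZero]

/-- A stage of the approximation. -/
structure Stage (F : CochainComplex C ℤ) (k : ℤ) where
  X : CochainComplex C ℤ
  u : X ⟶ F
  hX : PCoh.IsStrictPCAll P X
  hu : Approx (DerivedCategory.Q.map u) k

theorem Stage.exists_next (hsum : ∀ X Y : C, P X → P Y → P (X ⨯ Y)) (hql : PCoh.IsQuasiLiftable P)
    {F : CochainComplex C ℤ} (hF : ∀ n, Crit P n F) (k k' : ℤ) (hk : k' + 1 = k) (S : Stage P F k) :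
    ∃ (S' : Stage P F k') (v : S.X ⟶ S'.X), v ≫ S'.u = S.u ∧ (∀ j, Mono (v.f j)) ∧
      (∀ j, j ≠ k' → IsIso (v.f j)) := by
  subst hk
  obtain ⟨E, v, u', P₁, hvu, hm, hi, -, hP₁, ⟨e⟩, ha⟩ :=
    step P hql k' S.u S.hu (hF k' k' le_rfl S.X S.u ⟨S.hX.1, fun i _ => S.hX.2 i⟩ S.hu)
  refine ⟨⟨E, u', ⟨?_, fun j => ?_⟩, ha⟩, v, hvu, hm, hi⟩
  · obtain ⟨b, hb⟩ := S.hX.1
    refine ⟨max b k', fun j hj => ?_⟩
    haveI := hi j (by omega)
    exact (hb j (by omega)).of_iso (asIso (v.f j)).symm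
  · rcases eq_or_ne j k' with rfl | hne
    · exact P.prop_of_iso e.symm (prop_biprod P hsum hP₁ (S.hX.2 j))
    · haveI := hi j hne
      exact P.prop_of_iso (asIso (v.f j)) (S.hX.2 j)

/-- The factorisation through a strictly pseudo-coherent complex. -/
theorem completeAll (hsum : ∀ X Y : C, P X → P Y → P (X ⨯ Y)) (hql : PCoh.IsQuasiLiftable P)
    {E F : CochainComplex C ℤ} (u : E ⟶ F) (hE : PCoh.IsStrictPCAll P E) (i : ℤ)
    (hu : Approx (DerivedCategory.Q.map u) i) (hF : ∀ n, Crit P n F) :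
    ∃ (E' : CochainComplex C ℤ) (v : E ⟶ E') (u' : E' ⟶ F), v ≫ u' = u ∧ PCoh.IsStrictPCAll P E' ∧
      QuasiIso u' ∧ (∀ j, Mono (v.f j)) ∧ (∀ j, i ≤ j → IsIso (v.f j)) := by
  choose next v hv hm hi using fun (m : ℕ) (S : Stage P F (i - m)) =>
    Stage.exists_next P hsum hql hF (i - m) (i - ((m + 1 : ℕ) : ℤ)) (by omega) S
  let S : ∀ m : ℕ, Stage P F (i - m) := fun m =>
    Nat.rec (motive := fun m => Stage P F (i - ((m : ℕ) : ℤ))) ⟨E, u, hE, by simpa using hu⟩ next m
  let w : ∀ m, (S m).X ⟶ (S (m + 1)).X := fun m => v m (S m)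
  have hw : ∀ (j : ℤ) (m : ℕ), i - j ≤ m → IsIso ((w m).f j) := fun j m h => hi m (S m) j (by omega)
  obtain ⟨L, ι, t, hιt, hι, hι₀⟩ := exists_union w (fun m => (S m).u) (fun m => hv m (S m))
    (fun j => ⟨(i - j).toNat, fun m hmj => hw j m (by omega)⟩)
  have hιN : ∀ (j : ℤ) (N : ℕ), i - j ≤ N → IsIso ((ι N).f j) := fun j N h =>
    hι j N fun m hmN => hw j m (by omega)
  refine ⟨L, ι 0, t, hιt 0, ⟨?_, fun j => ?_⟩, ?_, fun j => hι₀ j fun m => hm m (S m) j,
    fun j hj => hιN j 0 (by omega)⟩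
  · obtain ⟨b, hb⟩ := hE.1
    refine ⟨max b i, fun j hj => ?_⟩
    haveI := hιN j 0 (by omega)
    exact (hb j (by omega)).of_iso (asIso ((ι 0).f j)).symm
  · haveI := hιN j (i - j).toNat (by omega)
    exact P.prop_of_iso (asIso ((ι (i - j).toNat).f j)) ((S _).hX.2 j)
  · rw [quasiIso_iff]
    intro j
    let N := (i - j).toNat + 1
    have h1 : QuasiIsoAt (ι N) j := by
      rw [quasiIsoAt_iff' (ι N) (j - 1) j (j + 1) (by simp) (by simp)]
      haveI h1 := hιN (j - 1) N (by omega)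
      haveI h2 := hιN j N (by omega)
      haveI h3 := hιN (j + 1) N (by omega)
      let φ := (HomologicalComplex.shortComplexFunctor' C (ComplexShape.up ℤ) (j - 1) j (j + 1)).map (ι N)
      haveI : Epi φ.τ₁ := show Epi ((ι N).f (j - 1)) from inferInstance
      haveI : IsIso φ.τ₂ := h2
      haveI : Mono φ.τ₃ := show Mono ((ι N).f (j + 1)) from inferInstance
      exact ShortComplex.quasiIso_of_epi_of_isIso_of_mono φ
    rw [quasiIsoAt_iff_isIso_homologyMap] at h1 ⊢
    have h2 := ((approx_Q_iff (S N).u _).1 (S N).hu).1 j (by omega)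
    rw [← hιt N, HomologicalComplex.homologyMap_comp] at h2
    exact IsIso.of_isIso_comp_left (HomologicalComplex.homologyMap (ι N) j) _

theorem replaceAll (hsum : ∀ X Y : C, P X → P Y → P (X ⨯ Y)) (hqs : PCoh.IsQuasiStableUnderKernels P)
    (hql : PCoh.IsQuasiLiftable P) {X F : CochainComplex C ℤ} (s : X ⟶ F) [QuasiIso s]
    (hF : PCoh.IsStrictPCAll P F) :
    ∃ (Z : CochainComplex C ℤ) (t : Z ⟶ X), PCoh.IsStrictPCAll P Z ∧ QuasiIso t := by
  obtain ⟨b, hb⟩ := hF.1
  obtain ⟨Z, -, t, -, hZ, ht, -, -⟩ := completeAll P hsum hql (0 : (0 : CochainComplex C ℤ) ⟶ X)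
    ⟨⟨0, fun j _ => isZero_zero_X j⟩, fun j => prop_of_isZero P (isZero_zero_X j)⟩ (b + 1)
    (approx_zero _ fun i hi => (ShortComplex.isZero_homology_of_isZero_X₂ _ (hb i (by omega))).of_iso
      (isoOfQuasiIsoAt s i))
    (fun n => crit_of_quasiIso P hsum hqs s ⟨hF.1, fun i _ => hF.2 i⟩)
  exact ⟨Z, t, hZ, ht⟩

end Groth.L13.PCoh
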