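/-
Dévissage of pseudo-coherence along the degrees of a complex and of its homology.
-/
import Groth.Agent.L13.PCoh.Limit
import Groth.Agent.S5603
import Groth.Agent.S5598
import Mathlib.Algebra.Homology.DerivedCategory.TStructure
import Mathlib.Algebra.Homology.DerivedCategory.SingleTriangle
import Mathlib.Algebra.Homology.DerivedCategory.FullyFaithful

set_option autoImplicit false

universe w v u

open CategoryTheory CategoryTheory.Limits Pretriangulated ZeroObject

namespace Groth.L13.PCoh

variable {C : Type u} [Category.{v} C] [Abelian C] [HasDerivedCategory.{w} C]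

local notation "H" => DerivedCategory.homologyFunctor C

/-- Splitting off the top homology. -/
theorem exists_homology_triangle (F : DerivedCategory C) (b : ℤ) (hb : ∀ i, b < i → IsZero ((H i).obj F)) :
    ∃ T : Triangle (DerivedCategory C), T ∈ distTriang _ ∧ (∀ i, b - 1 < i → IsZero ((H i).obj T.obj₁)) ∧
      Nonempty (T.obj₂ ≅ F) ∧
      Nonempty (T.obj₃ ≅ (DerivedCategory.singleFunctor C b).obj ((H b).obj F)) := by
  obtain ⟨X, Y, hX, hY, f, g, h, hT⟩ := DerivedCategory.TStructure.t.exists_triangle F (b - 1) b (by omega)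
  haveI : X.IsLE (b - 1) := ⟨hX⟩
  haveI : Y.IsGE b := ⟨hY⟩
  have hX0 : ∀ i, b - 1 < i → IsZero ((H i).obj X) := fun i hi => X.isZero_of_isLE (b - 1) i hi
  have hepi : ∀ i, b - 1 < i → Epi ((H i).map g) := fun i hi =>
    (DerivedCategory.HomologySequence.epi_homologyMap_mor₂_iff _ hT i (i + 1) rfl).2
      ((hX0 (i + 1) (by omega)).eq_of_tgt _ _)
  haveI : Y.IsLE b := by
    rw [DerivedCategory.isLE_iff]
    intro i hi
    haveI := hepi i (by omega)
    exact IsZero.of_epi_eq_zero _ ((hb i hi).eq_of_src ((H i).map g) 0)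
  haveI := hepi b (by omega)
  haveI : Mono ((H b).map g) :=
    (DerivedCategory.HomologySequence.mono_homologyMap_mor₂_iff _ hT b).2 ((hX0 b (by omega)).eq_of_src _ _)
  haveI : IsIso ((H b).map g) := isIso_of_mono_of_epi _
  obtain ⟨Z, ⟨e⟩⟩ := Y.exists_iso_singleFunctor_obj_of_isGE_of_isLE b
  refine ⟨_, hT, hX0, ⟨Iso.refl _⟩, ⟨e ≪≫ (DerivedCategory.singleFunctor C b).mapIso ?_⟩⟩
  exact ((DerivedCategory.singleFunctorCompHomologyFunctorIso C b).app Z).symm ≪≫
    (H b).mapIso e.symm ≪≫ (asIso ((H b).map g)).symm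

/-- Splitting off the top term. -/
theorem exists_term_triangle (F : CochainComplex C ℤ) (b : ℤ) (hb : ∀ i, b < i → IsZero (F.X i)) :
    ∃ (G : CochainComplex C ℤ) (T : Triangle (DerivedCategory C)), T ∈ distTriang _ ∧
      (∀ i, b - 1 < i → IsZero (G.X i)) ∧ (∀ i, i < b → Nonempty (F.X i ≅ G.X i)) ∧
      Nonempty (T.obj₁ ≅ (DerivedCategory.singleFunctor C b).obj (F.X b)) ∧
      Nonempty (T.obj₂ ≅ DerivedCategory.Q.obj F) ∧ Nonempty (T.obj₃ ≅ DerivedCategory.Q.obj G) := by
  let s : (HomologicalComplex.single C (ComplexShape.up ℤ) b).obj (F.X b) ⟶ F :=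
    HomologicalComplex.mkHomFromSingle (𝟙 (F.X b)) fun k hk => (hb k (by simp at hk; omega)).eq_of_tgt _ _
  have hs : IsIso (s.f b) := by
    simp only [s, HomologicalComplex.mkHomFromSingle_f]
    infer_instance
  have hz : ∀ i, i ≠ b → IsZero (((HomologicalComplex.single C (ComplexShape.up ℤ) b).obj (F.X b)).X i) :=
    fun i hi => HomologicalComplex.isZero_single_obj_X (ComplexShape.up ℤ) b (F.X b) i hi
  haveI : Mono s := by
    haveI : ∀ i, Mono (s.f i) := fun i => by
      rcases eq_or_ne i b with rfl | hi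
      · infer_instance
      · exact ⟨fun g h _ => (hz i hi).eq_of_tgt g h⟩
    exact HomologicalComplex.mono_of_mono_f s ‹_›
  have hS : (ShortComplex.mk s (cokernel.π s) (cokernel.condition s)).ShortExact :=
    { exact := ShortComplex.exact_of_g_is_cokernel _ (cokernelIsCokernel s) }
  have hSi := fun i => hS.map_of_exact (HomologicalComplex.eval C (ComplexShape.up ℤ) i)
  have hiso : ∀ i, i < b → IsIso ((cokernel.π s).f i) := fun i hi =>
    (hSi i).isIso_g_iff.2 (hz i (by omega))
  refine ⟨cokernel s, _, DerivedCategory.triangleOfSES_distinguished hS, fun i hi => ?_,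
    fun i hi => ?_, ⟨Iso.refl _⟩, ⟨Iso.refl _⟩, ⟨Iso.refl _⟩⟩
  · haveI : Epi ((cokernel.π s).f i) := (hSi i).epi_g
    rcases eq_or_lt_of_le (show b ≤ i by omega) with rfl | hi'
    · exact (hSi b).isIso_f_iff.1 hs
    · exact IsZero.of_epi_eq_zero _ ((hb i hi').eq_of_src ((cokernel.π s).f i) 0)
  · haveI := hiso i hi
    exact ⟨asIso ((cokernel.π s).f i)⟩

variable (P : ObjectProperty C) [P.IsClosedUnderIsomorphisms] [P.ContainsZero]

theorem isN_single_prop (n : ℤ) {A : C} (hA : P A) (b : ℤ) :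
    IsN P n ((DerivedCategory.singleFunctor C b).obj A) := by
  refine ⟨(HomologicalComplex.single C (ComplexShape.up ℤ) b).obj A, ⟨⟨b, fun i hi =>
    HomologicalComplex.isZero_single_obj_X (ComplexShape.up ℤ) b A i (by omega)⟩, fun i _ => ?_⟩, ⟨Iso.refl _⟩⟩
  rcases eq_or_ne i b with rfl | hi
  · exact P.prop_of_iso (HomologicalComplex.singleObjXSelf (ComplexShape.up ℤ) i A).symm hA
  · exact prop_of_isZero P (HomologicalComplex.isZero_single_obj_X (ComplexShape.up ℤ) b A i hi)

omit [P.ContainsZero] in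
theorem isN_single {n b : ℤ} {A : C} (h : IsN P (n - b) ((DerivedCategory.singleFunctor C 0).obj A)) :
    IsN P n ((DerivedCategory.singleFunctor C b).obj A) :=
  (h.shift P (-b) n (by omega)).of_iso P
    (((DerivedCategory.singleFunctors C).shiftIso (-b) b 0 (by omega)).app A)

omit [P.IsClosedUnderIsomorphisms] [P.ContainsZero] in
theorem isZero_homology_single (A : C) (b i : ℤ) (hi : i ≠ b) :
    IsZero ((H i).obj ((DerivedCategory.singleFunctor C b).obj A)) :=
  (isZero_homologyFunctor_Q_iff _ i).2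
    (HomologicalComplex.isZero_single_obj_homology (ComplexShape.up ℤ) b A i hi)

/-- `F[0]` is `0`-pseudo-coherent iff `F` is of finite type. -/
theorem isN_zero_single_iff (hsum : ∀ X Y : C, P X → P Y → P (X ⨯ Y)) (hqs : PCoh.IsQuasiStableUnderKernels P)
    (hql : PCoh.IsQuasiLiftable P) (A : C) :
    IsN P 0 ((DerivedCategory.singleFunctor C 0).obj A) ↔ PCoh.IsOfFiniteType P A :=
  (Groth.Agent.S5603.result P hsum hqs hql 0 _ fun i hi => isZero_homology_single A 0 i hi.ne').trans
    ⟨ft_of_iso P ((DerivedCategory.singleFunctorCompHomologyFunctorIso C 0).app A),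
      ft_of_iso P ((DerivedCategory.singleFunctorCompHomologyFunctorIso C 0).app A).symm⟩

/-- Dévissage by the terms. -/
theorem isN_of_terms (hsum : ∀ X Y : C, P X → P Y → P (X ⨯ Y)) (hqs : PCoh.IsQuasiStableUnderKernels P)
    (hql : PCoh.IsQuasiLiftable P) (n : ℤ) (F : CochainComplex C ℤ) (b : ℤ) (hb : ∀ i, b < i → IsZero (F.X i))
    (hfp : ∀ i, n ≤ i → IsN P (n - i) ((DerivedCategory.singleFunctor C 0).obj (F.X i))) :
    IsN P n (DerivedCategory.Q.obj F) := by
  obtain ⟨m, hm⟩ : ∃ m : ℕ, b < n + m := ⟨(b - n + 1).toNat, by omega⟩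
  induction m generalizing F b with
  | zero =>
    refine isN_of_isLE P hsum hql fun i hi => (isZero_homologyFunctor_Q_iff F i).2 ?_
    exact ShortComplex.isZero_homology_of_isZero_X₂ _ (hb i (by simp at hm; omega))
  | succ m ih =>
    by_cases hbn : b < n + m
    · exact ih F b hb hfp hbn
    obtain ⟨G, T, hT, hG, hGi, ⟨e₁⟩, ⟨e₂⟩, ⟨e₃⟩⟩ := exists_term_triangle F b hb
    refine (isN_obj₂ P hsum hqs hql hT ((isN_single P (hfp b (by omega))).of_iso P e₁.symm)
      ((ih G (b - 1) hG (fun i hi => ?_) (by omega)).of_iso P e₃.symm)).of_iso P e₂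
    rcases lt_or_ge i b with hib | hib
    · obtain ⟨e⟩ := hGi i hib
      exact (hfp i hi).of_iso P ((DerivedCategory.singleFunctor C 0).mapIso e)
    · refine isN_of_isLE P hsum hql fun j _ => ?_
      exact Functor.map_isZero _ (Functor.map_isZero _ (hG i (by omega)))

/-- Dévissage by the homology objects. -/
theorem isN_of_homology (hsum : ∀ X Y : C, P X → P Y → P (X ⨯ Y)) (hqs : PCoh.IsQuasiStableUnderKernels P)
    (hql : PCoh.IsQuasiLiftable P) (n : ℤ) (F : DerivedCategory C) (b : ℤ) (hb : ∀ i, b < i → IsZero ((H i).obj F))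
    (hfp : ∀ i, n ≤ i → IsN P (n - i) ((DerivedCategory.singleFunctor C 0).obj ((H i).obj F))) :
    IsN P n F := by
  obtain ⟨m, hm⟩ : ∃ m : ℕ, b < n + m := ⟨(b - n + 1).toNat, by omega⟩
  induction m generalizing F b with
  | zero => exact isN_of_isLE P hsum hql fun i hi => hb i (by simp at hm; omega)
  | succ m ih =>
    by_cases hbn : b < n + m
    · exact ih F b hb hfp hbn
    obtain ⟨T, hT, h₁, ⟨e₂⟩, ⟨e₃⟩⟩ := exists_homology_triangle F b hb
    refine (isN_obj₂ P hsum hqs hql hT (ih T.obj₁ (b - 1) h₁ (fun i hi => ?_) (by omega))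
      ((isN_single P (hfp b (by omega))).of_iso P e₃.symm)).of_iso P e₂
    rcases lt_or_ge i b with hib | hib
    · have hz : ∀ j, j < b → IsZero ((H j).obj T.obj₃) := fun j hj =>
        (isZero_homology_single _ b j hj.ne).of_iso ((H j).mapIso e₃)
      haveI : Mono ((H i).map T.mor₁) :=
        (DerivedCategory.HomologySequence.mono_homologyMap_mor₁_iff T hT (i - 1) i (by omega)).2
          ((hz (i - 1) (by omega)).eq_of_src _ _)
      haveI : Epi ((H i).map T.mor₁) :=
        (DerivedCategory.HomologySequence.epi_homologyMap_mor₁_iff T hT i).2 ((hz i hib).eq_of_tgt _ _)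
      haveI : IsIso ((H i).map T.mor₁) := isIso_of_mono_of_epi _
      exact (hfp i hi).of_iso P ((DerivedCategory.singleFunctor C 0).mapIso
        ((H i).mapIso e₂.symm ≪≫ (asIso ((H i).map T.mor₁)).symm))
    · refine isN_of_isLE P hsum hql fun j _ => ?_
      exact Functor.map_isZero _ (Functor.map_isZero _ (h₁ i (by omega)))

end Groth.L13.PCoh
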