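/-
Bounded complexes with terms in a liftable subcategory stable under kernels of epimorphisms.
-/
import Groth.Agent.L13.PCoh.Basic
import Mathlib.Algebra.Homology.DerivedCategory.KProjective

set_option autoImplicit false

universe w v u

open CategoryTheory CategoryTheory.Limits Pretriangulated

namespace Groth.L13.PCoh

variable {C : Type u} [Category.{v} C] [Abelian C] (P : ObjectProperty C)

/-- Liftability says that the objects of `C₀` are projective. -/
theorem projective_of_prop (hlift : ∀ (E F : C) (u : E ⟶ F), Epi u → P F → IsSplitEpi u) {X : C} (hX : P X) :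
    Projective X where
  factors {A B} f e _ := by
    haveI := hlift (pullback f e) X (pullback.fst f e) inferInstance hX
    exact ⟨section_ (pullback.fst f e) ≫ pullback.snd f e, by
      rw [Category.assoc, ← pullback.condition, IsSplitEpi.id_assoc]⟩

theorem isQuasiLiftable (hlift : ∀ (E F : C) (u : E ⟶ F), Epi u → P F → IsSplitEpi u) :
    PCoh.IsQuasiLiftable P := fun E F u hu hF => by
  haveI := hlift E F u hu hF
  exact ⟨F, section_ u, hF, by rw [IsSplitEpi.id]; infer_instance⟩

variable [P.IsClosedUnderIsomorphisms] [P.ContainsZero]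

/-- Cycles of a complex which is exact in high degrees. -/
theorem prop_cycles (hst : ∀ (E F : C) (u : E ⟶ F), Epi u → P E → P F → P (kernel u))
    (K : CochainComplex C ℤ) (k c : ℤ) (hz : ∀ i, c < i → IsZero (K.X i)) (hP : ∀ i, k ≤ i → P (K.X i))
    (hex : ∀ i, k < i → K.ExactAt i) : P (K.cycles k) := by
  obtain ⟨m, hm⟩ : ∃ m : ℕ, c < k + m := ⟨(c + 1 - k).toNat, by omega⟩
  induction m generalizing k with
  | zero => exact prop_of_isZero P (IsZero.of_mono_eq_zero (K.iCycles k) ((hz k (by omega)).eq_of_tgt _ _))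
  | succ m ih =>
    have h1 := ih (k + 1) (fun i hi => hP i (by omega)) (fun i hi => hex i (by omega)) (by omega)
    haveI : Epi (K.toCycles k (k + 1)) := by
      rw [epi_iff_surjective_up_to_refinements]
      intro A z
      have he := hex (k + 1) (by omega)
      rw [HomologicalComplex.exactAt_iff' _ k (k + 1) (k + 2) (by simp) (by simp; omega),
        ShortComplex.exact_iff_exact_up_to_refinements] at he
      obtain ⟨A', p, hp, x, hx⟩ := he (z ≫ K.iCycles (k + 1))
        ((Category.assoc z _ _).trans ((congrArg (z ≫ ·) (K.iCycles_d (k + 1) (k + 2))).trans comp_zero))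
      refine ⟨A', p, hp, x, ?_⟩
      rw [← cancel_mono (K.iCycles (k + 1)), Category.assoc, Category.assoc, K.toCycles_i]
      exact hx
    have hker := hst _ _ (K.toCycles k (k + 1)) inferInstance (hP k le_rfl) h1
    refine P.prop_of_iso ?_ hker
    exact (kernelCompMono (K.toCycles k (k + 1)) (K.iCycles (k + 1))).symm ≪≫
      kernelIsoOfEq (K.toCycles_i k (k + 1)) ≪≫
      (kernelIsKernel (K.d k (k + 1))).conePointUniqueUpToIso (K.cyclesIsKernel k (k + 1) (by simp))

theorem isQuasiStable (hst : ∀ (E F : C) (u : E ⟶ F), Epi u → P E → P F → P (kernel u)) :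
    PCoh.IsQuasiStableUnderKernels P := by
  intro K hK hb hP
  obtain ⟨N, hN⟩ := hb
  suffices key : ∀ (m j : ℕ), 1 ≤ j → N < j + m → P (kernel (K.d j (j + 1))) by
    haveI : Mono (K.d 0 1) := ((K.exactAt_iff' 0 0 1 (by simp) (by simp)).1 (hK 0)).mono_g
      (K.shape 0 0 (by simp [ComplexShape.up_Rel]))
    haveI : Mono (K.sc' 0 1 2).f := ‹Mono (K.d 0 1)›
    let e := (kernelIsKernel (K.d 1 2)).conePointUniqueUpToIso
      ((K.exactAt_iff' 0 1 2 (by simp) (by simp)).1 (hK 1)).fIsKernel
    exact ⟨kernel (K.d 1 2), e.hom, key (N + 1) 1 le_rfl (by omega), IsIso.epi_of_iso _⟩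
  intro m
  induction m with
  | zero =>
    exact fun j _ hj => prop_of_isZero P (IsZero.of_mono_eq_zero (kernel.ι _) ((hN j (by omega)).eq_of_tgt _ _))
  | succ m ih =>
    intro j hj1 hj
    haveI : Epi (kernel.lift (K.d (j + 1) (j + 2)) (K.d j (j + 1)) (K.d_comp_d _ _ _)) :=
      ((K.exactAt_iff' j (j + 1) (j + 2) (by simp) (by simp)).1 (hK (j + 1))).epi_kernelLift
    refine P.prop_of_iso ?_ (hst _ _ (kernel.lift (K.d (j + 1) (j + 2)) (K.d j (j + 1)) (K.d_comp_d _ _ _))
      inferInstance (hP j hj1) (ih (j + 1) (by omega) (by omega)))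
    exact (kernelCompMono _ (kernel.ι (K.d (j + 1) (j + 2)))).symm ≪≫ kernelIsoOfEq (kernel.lift_ι _ _ _)

omit [P.IsClosedUnderIsomorphisms] [P.ContainsZero] in
/-- Maps in `D(C)` out of a bounded above complex of objects of `C₀` are chain maps. -/
theorem exists_Q_map_eq [HasDerivedCategory.{w} C] (hlift : ∀ (E F : C) (u : E ⟶ F), Epi u → P F → IsSplitEpi u)
    {E F : CochainComplex C ℤ} (b : ℤ) (hz : ∀ i, b < i → IsZero (E.X i)) (hP : ∀ i, P (E.X i))
    (α : DerivedCategory.Q.obj E ⟶ DerivedCategory.Q.obj F) :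
    ∃ f : E ⟶ F, DerivedCategory.Q.map f = α := by
  haveI : E.IsStrictlyLE b := (CochainComplex.isStrictlyLE_iff E b).2 fun i hi => hz i hi
  haveI : ∀ i, Projective (E.X i) := fun i => projective_of_prop P hlift (hP i)
  haveI : E.IsKProjective := CochainComplex.isKProjective_of_projective E b
  obtain ⟨g, hg⟩ := (CochainComplex.IsKProjective.Qh_map_bijective E _).surjective
    ((DerivedCategory.quotientCompQhIso C).hom.app E ≫ α ≫ (DerivedCategory.quotientCompQhIso C).inv.app F)
  obtain ⟨f, rfl⟩ := (HomotopyCategory.quotient C (ComplexShape.up ℤ)).map_surjective g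
  refine ⟨f, ?_⟩
  rw [← cancel_epi ((DerivedCategory.quotientCompQhIso C).hom.app E),
    ← cancel_mono ((DerivedCategory.quotientCompQhIso C).inv.app F), Category.assoc, Category.assoc, ← hg,
    DerivedCategory.quotientCompQhIso_inv_naturality, Iso.hom_inv_id_app_assoc]

end Groth.L13.PCoh
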